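import Cfsg.Agent.Lib.LangConnected.Lang
import Cfsg.Agent.Lib.ChevStr.Core
import Cfsg.Agent.Lib.ChevField.Fixed

/-!
Lang's theorem for Chevalley groups over an algebraically closed field of prime characteristic.
-/

set_option autoImplicit false

namespace CfsgLib.LangConnected

open Cfsg.Lie CfsgLib.ChevStr CfsgLib.ChevField Polynomial
open scoped MatrixGroups

universe u

variable {D : ChevalleyDatum} {F : Type u} [Field F]

/-- The matrix of a root element with indeterminate parameter. -/
noncomputable def xPoly (F : Type u) [Field F] (r : Fin D.nroots) : Matrix D.Idx D.Idx F[X] :=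
  Matrix.of fun row col =>
    match col with
    | Sum.inl i =>
      (match row with
       | Sum.inl i' => if i' = i then 1 else 0
       | Sum.inr u => if u = r then - (((D.cartanSR.getD i.val #[]).getD r.val 0 : ℤ) : F[X]) * X else 0)
    | Sum.inr s =>
      if s = r then (match row with | Sum.inr u => if u = r then 1 else 0 | Sum.inl _ => 0)
      else if s.val = D.negIdx.getD r.val 0 then
        (match row with
         | Sum.inl i => (((D.coroot.getD r.val #[]).getD i.val 0 : ℤ) : F[X]) * X
         | Sum.inr u => if u = s then 1 else if u = r then -(X ^ 2) else 0)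
      else
        (match row with
         | Sum.inl _ => 0
         | Sum.inr u => (if u = s then 1 else 0) +
             ((D.chainCoeff r.val s.val u.val).map fun km => ((km.2 : ℤ) : F[X]) * X ^ km.1).sum)

theorem xPoly_eval (r : Fin D.nroots) (t : F) :
    (xPoly F r).map (Polynomial.eval t) = D.xMat F r t := by
  ext a b
  show Polynomial.eval t (xPoly F r a b) = _
  have hsum : ∀ L : List (ℕ × ℤ), Polynomial.eval t (L.map fun (km : ℕ × ℤ) => ((km.2 : ℤ) : F[X]) * X ^ km.1).sum =
      (L.map fun km => ((km.2 : ℤ) : F) * t ^ km.1).sum := fun L => by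
    induction L with
    | nil => simp
    | cons p L ih => simp [ih]
  rcases a with i | u <;> rcases b with j | s <;>
    simp only [xPoly, ChevalleyDatum.xMat, Matrix.of_apply] <;>
    split_ifs <;> simp [hsum]

/-- The root subgroups as polynomial curves. -/
noncomputable def chevCurves (C : ChevCore D F) : Curves D.Idx F where
  J := Fin D.nroots
  x r t := C.xGL r t
  poly r := xPoly F r
  hpoly r t := by rw [C.coe_xGL, xPoly_eval]; simp [ChevalleyDatum.x, r.isLt]
  hzero r := C.xGL_zero r
  hinv r t := C.xGL_inv r t

theorem chevCurves_group (C : ChevCore D F) : (chevCurves C).group = D.group F := by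
  refine le_antisymm ((Subgroup.closure_le _).2 ?_) (C.group_le fun r t hr =>
    Subgroup.subset_closure ⟨(⟨r, hr⟩ : Fin D.nroots), t, rfl⟩)
  rintro _ ⟨r, t, rfl⟩
  exact C.xGL_mem_group _ _

/-- **Lang's theorem** for a Chevalley group over an algebraically closed field: every element is
`g⁻¹ * Frob g`. -/
theorem exists_lang_chevalley (C : ChevCore D F) [IsAlgClosed F] {q : ℕ} (hq : 1 < q) {φ : F →+* F}
    (hφ : ∀ t, φ t = t ^ q) {a : GL D.Idx F} (ha : a ∈ D.group F) :
    ∃ g ∈ D.group F, g⁻¹ * mapGL φ g = a := by
  rw [← chevCurves_group C] at ha ⊢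
  exact (chevCurves C).exists_lang hφ hq
    (fun r t => Units.ext (ChevField.x_map φ (Fin.val r) t)) ha

/-- Lang's theorem for the `p ^ k`-Frobenius. -/
theorem exists_lang_frobenius (C : ChevCore D F) [IsAlgClosed F] (p k : ℕ) [Fact p.Prime] [CharP F p]
    (hk : k ≠ 0) {a : GL D.Idx F} (ha : a ∈ D.group F) :
    ∃ g ∈ D.group F, g⁻¹ * mapGL (iterateFrobenius F p k) g = a :=
  exists_lang_chevalley C (Nat.one_lt_pow hk Fact.out (a := p)) (iterateFrobenius_def p k) ha

end CfsgLib.LangConnected
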