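import Mathlib

/-!
Extension of points of affine algebras over an algebraically closed field: along integral extensions,
and, off a hypersurface, along finitely generated extensions; injectivity criterion by transcendence
degree.
-/

set_option autoImplicit false

namespace CfsgLib.LangConnected

open Polynomial

universe u

/-- A surjection of affine domains which does not lower the transcendence degree is injective. -/
theorem injective_of_trdeg {F : Type*} [Field F] {A B : Type u} [CommRing A] [IsDomain A]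
    [Algebra F A] [CommRing B] [IsDomain B] [Algebra F B] (ψ : A →ₐ[F] B)
    (hψ : Function.Surjective ψ) (hfin : Algebra.trdeg F A < Cardinal.aleph0)
    (hle : Algebra.trdeg F A ≤ Algebra.trdeg F B) : Function.Injective ψ := by
  obtain ⟨b, hb⟩ := exists_isTranscendenceBasis' F B
  obtain ⟨ι, x, hx⟩ : ∃ (ι : Type u) (x : ι → B), IsTranscendenceBasis F x := ⟨b, hb⟩
  choose a ha using fun i => hψ (x i)
  have hax : ψ ∘ a = x := funext ha
  have haind : AlgebraicIndependent F a := AlgebraicIndependent.of_comp ψ (by rw [hax]; exact hx.1)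
  have hbasis : IsTranscendenceBasis F a :=
    haind.isTranscendenceBasis_of_trdeg_le hfin (by rw [hx.cardinalMk_eq_trdeg]; exact hle)
  rw [injective_iff_map_eq_zero]
  intro f hf
  by_contra hne
  have halg : Algebra.IsAlgebraic (Algebra.adjoin F (Set.range a)) A := hbasis.isAlgebraic
  obtain ⟨r, hr0, s, hs⟩ :=
    (Algebra.IsAlgebraic.isAlgebraic (R := Algebra.adjoin F (Set.range a)) f).exists_nonzero_dvd
      (mem_nonZeroDivisors_of_ne_zero hne)
  apply hr0
  have hr : (r : A) ∈ (MvPolynomial.aeval a : MvPolynomial ι F →ₐ[F] A).range := by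
    rw [← Algebra.adjoin_range_eq_range_aeval]; exact r.2
  obtain ⟨P, hP⟩ := hr
  have h0 : MvPolynomial.aeval x P = 0 := by
    have h1 : ψ (r : A) = 0 := by
      rw [show (r : A) = f * s from hs, map_mul, hf, zero_mul]
    rw [← hP] at h1
    rw [← h1, ← hax]
    exact (DFunLike.congr_fun (MvPolynomial.comp_aeval a ψ) P).symm
  have hP0 : P = 0 := hx.1 (by rw [h0, map_zero])
  exact Subtype.ext (by rw [← hP, hP0, map_zero]; rfl)

variable {F : Type*} [Field F] [IsAlgClosed F] {P : Type u} [CommRing P] [IsDomain P] [Algebra F P]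

omit [IsDomain P] in
/-- A point extends along an integral extension. -/
theorem exists_point_of_integral (B : Subalgebra F P) (A : Subalgebra B P)
    (hA : ∀ a ∈ A, IsIntegral B a) (ε : B →ₐ[F] F) :
    ∃ χ : A →+* F, ∀ b : B, χ (algebraMap B A b) = ε b := by
  have : Algebra.IsIntegral B A :=
    ⟨fun a => (isIntegral_algHom_iff A.val Subtype.val_injective).1 (hA a a.2)⟩
  have hsurj : Function.Surjective ε := fun t => ⟨algebraMap F B t, ε.commutes t⟩
  set P0 := RingHom.ker ε.toRingHom
  have : P0.IsPrime := RingHom.ker_isPrime _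
  obtain ⟨Q, -, hQ, hQc⟩ := Ideal.exists_ideal_over_prime_of_isIntegral P0 (⊥ : Ideal A) (by
    intro b hb
    rw [Ideal.mem_comap, Ideal.mem_bot] at hb
    have hb0 : b = 0 := Subtype.ext (congrArg Subtype.val hb : (b : P) = 0)
    rw [hb0]
    exact zero_mem _)
  let π : A →+* A ⧸ Q := Ideal.Quotient.mk Q
  let : Algebra F (A ⧸ Q) :=
    ((π.comp (algebraMap B A)).comp (algebraMap F B)).toAlgebra
  have hcompat : ∀ b : B, π (algebraMap B A b) = algebraMap F (A ⧸ Q) (ε b) := by
    intro b
    show _ = π (algebraMap B A (algebraMap F B (ε b)))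
    rw [← sub_eq_zero, ← map_sub, ← map_sub, Ideal.Quotient.eq_zero_iff_mem]
    have : b - algebraMap F B (ε b) ∈ Q.comap (algebraMap B A) := by
      rw [hQc, RingHom.mem_ker]
      simp
    exact this
  have : Algebra.IsIntegral F (A ⧸ Q) := ⟨fun y => by
    obtain ⟨a, rfl⟩ := Ideal.Quotient.mk_surjective y
    obtain ⟨m, hm, hma⟩ := Algebra.IsIntegral.isIntegral (R := B) a
    refine ⟨m.map ε.toRingHom, hm.map _, ?_⟩
    rw [Polynomial.eval₂_map]
    have e : (algebraMap F (A ⧸ Q)).comp ε.toRingHom = π.comp (algebraMap B A) :=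
      RingHom.ext fun b => (hcompat b).symm
    rw [e, ← Polynomial.hom_eval₂, hma, map_zero]⟩
  have hbij := IsAlgClosed.algebraMap_bijective_of_isIntegral (k := F) (K := A ⧸ Q)
  let e := RingEquiv.ofBijective (algebraMap F (A ⧸ Q)) hbij
  refine ⟨e.symm.toRingHom.comp π, fun b => ?_⟩
  show e.symm (π (algebraMap B A b)) = ε b
  rw [hcompat]
  exact e.symm_apply_apply _

/-- Off a hypersurface a point extends to a singly generated extension, avoiding a given one. -/
theorem exists_point_adjoin (B : Subalgebra F P) (z : P) (f : P)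
    (hf : f ∈ Algebra.adjoin B ({z} : Set P)) (hf0 : f ≠ 0) :
    ∃ g : B, g ≠ 0 ∧ ∀ ε : B →ₐ[F] F, ε g ≠ 0 →
      ∃ χ : (Algebra.adjoin B ({z} : Set P)).restrictScalars F →ₐ[F] F,
        (∀ b : B, χ ⟨b, Subalgebra.algebraMap_mem _ b⟩ = ε b) ∧ χ ⟨f, hf⟩ ≠ 0 := by
  classical
  have hev : ∀ c : P, c ∈ Algebra.adjoin B ({z} : Set P) ↔ ∃ p : B[X], aeval z p = c := by
    intro c
    rw [Algebra.adjoin_singleton_eq_range_aeval]
    rfl
  -- a root `v` such that polynomials killing `z` kill `v` gives the extension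
  have mk : ∀ (ε : B →ₐ[F] F) (v : F),
      (∀ p : B[X], aeval z p = 0 → p.eval₂ ε.toRingHom v = 0) →
      ∃ χ : (Algebra.adjoin B ({z} : Set P)).restrictScalars F →ₐ[F] F,
        (∀ b : B, χ ⟨b, Subalgebra.algebraMap_mem _ b⟩ = ε b) ∧
        ∀ (p : B[X]) (h : aeval z p ∈ Algebra.adjoin B ({z} : Set P)),
          χ ⟨aeval z p, h⟩ = p.eval₂ ε.toRingHom v := by
    intro ε v hv
    choose sel hsel using fun c : (Algebra.adjoin B ({z} : Set P)).restrictScalars F =>
      (hev c.1).1 c.2
    have key : ∀ (c : (Algebra.adjoin B ({z} : Set P)).restrictScalars F) (p : B[X]),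
        aeval z p = c.1 → (sel c).eval₂ ε.toRingHom v = p.eval₂ ε.toRingHom v := fun c p hp =>
      sub_eq_zero.1 (by rw [← eval₂_sub]; exact hv _ (by rw [map_sub, hsel, hp, sub_self]))
    let χ : (Algebra.adjoin B ({z} : Set P)).restrictScalars F →+* F :=
      { toFun := fun c => (sel c).eval₂ ε.toRingHom v
        map_one' := by rw [key 1 1 (by simp)]; simp
        map_mul' := fun a b => by
          rw [key (a * b) (sel a * sel b) (by simp [hsel]), eval₂_mul]
        map_zero' := by rw [key 0 0 (by simp)]; simp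
        map_add' := fun a b => by
          rw [key (a + b) (sel a + sel b) (by simp [hsel]), eval₂_add] }
    refine ⟨{ χ with commutes' := fun t => ?_ }, fun b => ?_, fun p h => ?_⟩
    · show (sel _).eval₂ ε.toRingHom v = t
      rw [key _ (C (algebraMap F B t)) (by simp), eval₂_C]
      exact ε.commutes t
    · show (sel _).eval₂ ε.toRingHom v = _
      rw [key _ (C b) (by simp), eval₂_C]
      rfl
    · exact key _ p rfl
  obtain ⟨pf, rfl⟩ := (hev f).1 hf
  by_cases halg : IsAlgebraic B z
  · have hfalg : IsAlgebraic B (aeval z pf) := by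
      have hle : Algebra.adjoin B ({z} : Set P) ≤ Subalgebra.algebraicClosure B P :=
        Algebra.adjoin_le (Set.singleton_subset_iff.2 halg)
      exact hle hf
    obtain ⟨u, hu0, hu⟩ := hfalg.exists_nonzero_coeff_and_aeval_eq_zero
      (mem_nonZeroDivisors_of_ne_zero hf0)
    have hex : ∃ d, ∃ m : B[X], m ≠ 0 ∧ aeval z m = 0 ∧ m.natDegree = d :=
      let ⟨m, hm, hmz⟩ := halg; ⟨_, m, hm, hmz, rfl⟩
    obtain ⟨m, hm0, hmz, hmd⟩ := Nat.find_spec hex
    have hmin : ∀ p : B[X], p.natDegree < m.natDegree → aeval z p = 0 → p = 0 := by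
      intro p hp hpz
      by_contra h
      exact Nat.find_min hex (hmd ▸ hp) ⟨p, h, hpz, rfl⟩
    have hdeg : 0 < m.natDegree := by
      by_contra h
      obtain ⟨c, rfl⟩ := natDegree_eq_zero.1 (by omega : m.natDegree = 0)
      rw [aeval_C] at hmz
      exact hm0 (by rw [show c = 0 from Subtype.ext hmz, map_zero])
    refine ⟨m.leadingCoeff * u.coeff 0, mul_ne_zero (leadingCoeff_ne_zero.2 hm0) hu0,
      fun ε hε => ?_⟩
    rw [map_mul] at hε
    have hc : ε m.leadingCoeff ≠ 0 := left_ne_zero_of_mul hε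
    obtain ⟨v, hv⟩ := IsAlgClosed.exists_root (m.map ε.toRingHom) (by
      rw [degree_map_eq_of_leadingCoeff_ne_zero _ hc, degree_eq_natDegree hm0]
      exact_mod_cast hdeg.ne')
    have hmv : m.eval₂ ε.toRingHom v = 0 := by
      rw [Polynomial.IsRoot, eval_map] at hv
      exact hv
    have hall : ∀ d (p : B[X]), p.natDegree = d → aeval z p = 0 → p.eval₂ ε.toRingHom v = 0 := by
      intro d
      induction d using Nat.strong_induction_on with
      | _ d ih =>
        intro p hpd hpz
        by_cases hp : p.natDegree < m.natDegree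
        · rw [hmin p hp hpz, eval₂_zero]
        push Not at hp
        set p' := C m.leadingCoeff * p - C p.leadingCoeff * X ^ (p.natDegree - m.natDegree) * m
          with hp'
        have hz' : aeval z p' = 0 := by simp [hp', hmz, hpz]
        have hlt : p' = 0 ∨ p'.natDegree < p.natDegree := by
          by_cases h0 : p' = 0
          · exact Or.inl h0
          refine Or.inr (lt_of_le_of_ne ?_ fun he => ?_)
          · refine (natDegree_sub_le _ _).trans (max_le (natDegree_C_mul_le _ _) ?_)
            refine natDegree_mul_le.trans ?_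
            have h1 := natDegree_C_mul_X_pow_le p.leadingCoeff (p.natDegree - m.natDegree)
            omega
          · apply h0
            rw [← leadingCoeff_eq_zero, show p'.leadingCoeff = p'.coeff p'.natDegree from rfl, he, hp', coeff_sub, coeff_C_mul, mul_assoc,
              coeff_C_mul, show ((X : B[X]) ^ (p.natDegree - m.natDegree) * m).coeff p.natDegree =
                m.leadingCoeff by rw [coeff_X_pow_mul', if_pos (Nat.sub_le _ _),
                  Nat.sub_sub_self hp]; rfl]
            rw [show p.coeff p.natDegree = p.leadingCoeff from rfl, mul_comm, sub_self]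
        have h' : p'.eval₂ ε.toRingHom v = 0 := by
          rcases hlt with h | h
          · rw [h, eval₂_zero]
          · exact ih _ (hpd ▸ h) p' rfl hz'
        rw [hp', eval₂_sub, eval₂_mul, eval₂_mul, eval₂_C, hmv, mul_zero, sub_zero] at h'
        exact (mul_eq_zero.1 h').resolve_left hc
    obtain ⟨χ, hχ, hχp⟩ := mk ε v fun p hp => hall _ p rfl hp
    refine ⟨χ, hχ, fun hz => right_ne_zero_of_mul hε ?_⟩
    have h1 : (u.map ε.toRingHom).eval (χ ⟨aeval z pf, hf⟩) = 0 := by
      rw [hχp, eval_map]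
      have := hall _ (u.comp pf) rfl (by rw [aeval_comp, hu])
      rw [eval₂_comp] at this
      exact this
    rw [hz, ← coeff_zero_eq_eval_zero, coeff_map] at h1
    exact h1
  · have hpf : pf ≠ 0 := fun h => hf0 (by rw [h, map_zero])
    refine ⟨pf.leadingCoeff, leadingCoeff_ne_zero.2 hpf, fun ε hε => ?_⟩
    have hpf' : pf.map ε.toRingHom ≠ 0 := fun h => hε (by
      have := congrArg (fun r => r.coeff pf.natDegree) h
      rw [coeff_map, coeff_zero] at this
      exact this)
    obtain ⟨v, hv⟩ : ∃ v : F, (pf.map ε.toRingHom).eval v ≠ 0 := by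
      by_contra h
      push Not at h
      exact hpf' (Polynomial.funext fun r => by rw [h, eval_zero])
    obtain ⟨χ, hχ, hχp⟩ := mk ε v fun p hp => by
      by_cases h : p = 0
      · rw [h, eval₂_zero]
      · exact absurd ⟨p, h, hp⟩ halg
    exact ⟨χ, hχ, by rw [hχp, ← eval_map]; exact hv⟩

/-- Off a hypersurface a point extends to a finitely generated extension, avoiding a given one. -/
theorem exists_point_adjoin_list : ∀ (L : List P) (B : Subalgebra F P) (f : P)
    (_ : f ∈ B ⊔ Algebra.adjoin F {x | x ∈ L}), f ≠ 0 →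
    ∃ g : B, g ≠ 0 ∧ ∀ ε : B →ₐ[F] F, ε g ≠ 0 →
      ∃ χ : (B ⊔ Algebra.adjoin F {x | x ∈ L} : Subalgebra F P) →ₐ[F] F,
        (∀ b : B, χ ⟨b, le_sup_left (b := Algebra.adjoin F {x | x ∈ L}) b.2⟩ = ε b) ∧
          ∀ h, χ ⟨f, h⟩ ≠ 0 := by
  intro L
  induction L with
  | nil =>
    intro B f hf hf0
    have e : (B ⊔ Algebra.adjoin F {x | x ∈ ([] : List P)} : Subalgebra F P) = B := by simp
    refine ⟨⟨f, e ▸ hf⟩, fun h => hf0 (congrArg Subtype.val h), fun ε hε => ?_⟩
    exact ⟨ε.comp (Subalgebra.inclusion e.le), fun b => rfl, fun h => hε⟩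
  | cons z L ih =>
    intro B f hf hf0
    set B' := (Algebra.adjoin B ({z} : Set P)).restrictScalars F with hB'
    have hle : B ≤ B' := fun b hb => Subalgebra.algebraMap_mem _ (⟨b, hb⟩ : B)
    have e : (B ⊔ Algebra.adjoin F {x | x ∈ z :: L} : Subalgebra F P) =
        B' ⊔ Algebra.adjoin F {x | x ∈ L} := by
      have h1 : B' = B ⊔ Algebra.adjoin F {z} := by
        rw [hB', Algebra.restrictScalars_adjoin, Algebra.adjoin_union, Algebra.adjoin_eq]
      rw [h1, sup_assoc, ← Algebra.adjoin_union]
      congr 2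
      ext x; simp
    obtain ⟨g', hg', h'⟩ := ih B' f (e ▸ hf) hf0
    obtain ⟨g, hg, hh⟩ := exists_point_adjoin B z g'.1 g'.2 fun h => hg' (Subtype.ext h)
    refine ⟨g, hg, fun ε hε => ?_⟩
    obtain ⟨χ₁, hχ₁, hχ₁g⟩ := hh ε hε
    obtain ⟨χ, hχ, hχf⟩ := h' χ₁ hχ₁g
    exact ⟨χ.comp (Subalgebra.inclusion e.le),
      fun b => (hχ ⟨b, hle b.2⟩).trans (hχ₁ b), fun h => hχf _⟩

end CfsgLib.LangConnected
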