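import Cfsg.Agent.Lib.LangConnected.Extend

/-!
Lang's theorem for matrix groups generated by polynomial one-parameter subgroups defined over a finite
field: over an algebraically closed field `x ↦ x⁻¹ * Frob x` is surjective.

The image of a word map of maximal transcendence degree is dense in the group; the entries of `x` are
integral over those of `x⁻¹ * a * Frob x`, so each of these maps has dense image.
-/

set_option autoImplicit false

namespace CfsgLib.LangConnected

open Polynomial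
open scoped MatrixGroups

universe u

/-- A ring generated by elements whose `q`-th powers lie in their span is integral. -/
theorem isIntegral_of_pow_mem_span {B P : Type*} [CommRing B] [CommRing P] [Algebra B P] {σ : Type*}
    [Fintype σ] (v : σ → P) {q : ℕ} (hq : 1 < q)
    (h : ∀ z, v z ^ q ∈ Submodule.span B (Set.range v)) :
    ∀ c ∈ Algebra.adjoin B (Set.range v), IsIntegral B c := by
  classical
  set mon : (σ → ℕ) → P := fun e => ∏ z, v z ^ e z with hmon
  set Mon := (Finset.univ : Finset (σ → Fin q)).image fun e => mon fun z => (e z : ℕ) with hMon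
  set M := Submodule.span B (Mon : Set P) with hM
  have hadd : ∀ e e', mon (e + e') = mon e * mon e' := fun e e' => by
    simp [hmon, pow_add, Finset.prod_mul_distrib]
  have hsingle : ∀ z d, mon (Pi.single z d) = v z ^ d := fun z d => by
    simp only [hmon]
    rw [Fintype.prod_eq_single z fun w hw => by simp [hw], Pi.single_eq_same]
  have hall : ∀ d e, ∑ z, e z = d → mon e ∈ M := by
    intro d
    induction d using Nat.strong_induction_on with
    | _ d ih =>
      intro e he
      by_cases hlt : ∀ z, e z < q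
      · exact Submodule.subset_span
          (Finset.mem_image_of_mem _ (Finset.mem_univ fun z => (⟨e z, hlt z⟩ : Fin q)))
      push Not at hlt
      obtain ⟨z, hz⟩ := hlt
      set e' := Function.update e z (e z - q)
      have hee : e = e' + Pi.single z q := by
        funext w
        by_cases hw : w = z
        · subst hw; simp [e', Nat.sub_add_cancel hz]
        · simp [e', hw]
      rw [hee, hadd, hsingle]
      have h1 : mon e' * v z ^ q ∈ (Submodule.span B (Set.range v)).map (LinearMap.mulLeft B (mon e')) :=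
        ⟨_, h z, rfl⟩
      rw [Submodule.map_span] at h1
      refine Submodule.span_le.2 ?_ h1
      rintro _ ⟨_, ⟨w, rfl⟩, rfl⟩
      show mon e' * v w ∈ M
      rw [← pow_one (v w), ← hsingle, ← hadd]
      refine ih _ ?_ _ rfl
      have hs : ∑ x, e x = ∑ x, e' x + q := by
        conv_lhs => rw [hee]
        simp [Finset.sum_add_distrib]
      rw [← he, hs]
      simp only [Pi.add_apply, Finset.sum_add_distrib, Finset.sum_pi_single', Finset.mem_univ, if_true]
      omega
  have hM' : Subalgebra.toSubmodule (Algebra.adjoin B (Set.range v)) = M := by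
    refine le_antisymm ?_ (Submodule.span_le.2 ?_)
    · rw [Algebra.adjoin_eq_span, Submodule.span_le]
      intro c hc
      obtain ⟨e, rfl⟩ : ∃ e, mon e = c := by
        induction hc using Submonoid.closure_induction with
        | mem x hx => obtain ⟨z, rfl⟩ := hx; exact ⟨Pi.single z 1, by rw [hsingle, pow_one]⟩
        | one => exact ⟨0, by simp [hmon]⟩
        | mul x y _ _ hx hy =>
          obtain ⟨e, rfl⟩ := hx
          obtain ⟨e', rfl⟩ := hy
          exact ⟨e + e', hadd e e'⟩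
      exact hall _ e rfl
    · intro c hc
      obtain ⟨e, -, rfl⟩ := Finset.mem_image.1 hc
      show mon _ ∈ Algebra.adjoin B (Set.range v)
      exact prod_mem fun z _ => pow_mem (Algebra.subset_adjoin (Set.mem_range_self z)) _
  exact fun c hc => IsIntegral.of_mem_of_fg _ (by rw [hM']; exact Submodule.fg_span Mon.finite_toSet) c hc

/-- An algebra integral over a subalgebra has no larger transcendence degree. -/
theorem trdeg_le_of_isIntegral {F : Type*} [Field F] {P : Type u} [CommRing P] [IsDomain P]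
    [Algebra F P] (A B : Subalgebra F P) (A' : Subalgebra B P) (h : A ≤ A'.restrictScalars F)
    [Algebra.IsIntegral B A'] : Algebra.trdeg F A ≤ Algebra.trdeg F B := by
  refine (trdeg_le_of_injective (Subalgebra.inclusion h) (Subalgebra.inclusion_injective _)).trans ?_
  show Algebra.trdeg F A' ≤ _
  have : FaithfulSMul B A' := (faithfulSMul_iff_algebraMap_injective _ _).2 fun c d e =>
    Subtype.ext (congrArg (fun z : A' => (z : P)) e)
  rw [← trdeg_add_eq (R := F) (S := B) (A := A'), trdeg_eq_zero (R := B) (A := A'), add_zero]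

/-- A homomorphism whose kernel contains that of another factors through its range. -/
theorem exists_factor {F R S T : Type*} [CommRing F] [CommRing R] [CommRing S] [CommRing T]
    [Algebra F R] [Algebra F S] [Algebra F T] (f : R →ₐ[F] S) (g : R →ₐ[F] T)
    (h : RingHom.ker f ≤ RingHom.ker g) :
    ∃ θ : f.range →ₐ[F] g.range, (∀ r, θ ⟨f r, r, rfl⟩ = ⟨g r, r, rfl⟩) ∧ Function.Surjective θ := by
  let e := Ideal.quotientKerEquivRange f
  let l : (R ⧸ RingHom.ker f) →ₐ[F] g.range :=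
    Ideal.Quotient.liftₐ _ g.rangeRestrict fun a ha => Subtype.ext (h ha)
  have hval : ∀ r, (l.comp e.symm.toAlgHom) ⟨f r, r, rfl⟩ = ⟨g r, r, rfl⟩ := fun r => by
    have : e.symm ⟨f r, r, rfl⟩ = Ideal.Quotient.mk _ r := by
      rw [AlgEquiv.symm_apply_eq]; rfl
    show l (e.symm _) = _
    rw [this]
    rfl
  exact ⟨_, hval, fun b => by obtain ⟨r, hr⟩ := b.2; exact ⟨_, (hval r).trans (Subtype.ext hr)⟩⟩

/-- Polynomial one-parameter subgroups of a matrix group. -/
structure Curves (ι : Type) [Fintype ι] [DecidableEq ι] (F : Type u) [Field F] where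
  J : Type
  x : J → F → GL ι F
  poly : J → Matrix ι ι F[X]
  hpoly : ∀ j t, ((x j t : GL ι F) : Matrix ι ι F) = (poly j).map (Polynomial.eval t)
  hzero : ∀ j, x j 0 = 1
  hinv : ∀ j t, (x j t)⁻¹ = x j (-t)

namespace Curves

variable {ι : Type} [Fintype ι] [DecidableEq ι] {F : Type u} [Field F] (Γ : Curves ι F)

/-- The group generated by the subgroups. -/
def group : Subgroup (GL ι F) := Subgroup.closure {g | ∃ j t, Γ.x j t = g}

/-- The values of a word map. -/
def W : List Γ.J → Set (GL ι F)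
  | [] => {1}
  | j :: w => {g | ∃ t, ∃ h ∈ W w, Γ.x j t * h = g}

/-- The generic value of a word map. -/
noncomputable def mat : (w : List Γ.J) → Matrix ι ι (MvPolynomial (Fin w.length) F)
  | [] => 1
  | j :: w => (Γ.poly j).map (Polynomial.aeval (MvPolynomial.X ⟨0, Nat.succ_pos _⟩)) *
      (mat w).map (MvPolynomial.rename Fin.succ)

theorem one_mem_W : ∀ w, (1 : GL ι F) ∈ Γ.W w
  | [] => rfl
  | j :: w => ⟨0, 1, one_mem_W w, by rw [Γ.hzero, one_mul]⟩

theorem mul_mem_W : ∀ w w' (g h : GL ι F), g ∈ Γ.W w → h ∈ Γ.W w' → g * h ∈ Γ.W (w ++ w')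
  | [], w', g, h, hg, hh => by rw [Set.mem_singleton_iff.1 hg, one_mul]; exact hh
  | j :: w, w', _, h, ⟨t, g, hg, rfl⟩, hh => ⟨t, g * h, mul_mem_W w w' g h hg hh, (mul_assoc _ _ _).symm⟩

theorem W_le_group : ∀ w, Γ.W w ⊆ Γ.group
  | [] => fun g hg => by rw [Set.mem_singleton_iff.1 hg]; exact one_mem _
  | j :: w => by
    rintro _ ⟨t, h, hh, rfl⟩
    exact mul_mem (Subgroup.subset_closure ⟨j, t, rfl⟩) (W_le_group w hh)

theorem exists_mem_W {g : GL ι F} (hg : g ∈ Γ.group) : ∃ w, g ∈ Γ.W w := by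
  induction hg using Subgroup.closure_induction'' with
  | mem x hx =>
    obtain ⟨j, t, rfl⟩ := hx
    exact ⟨[j], t, 1, rfl, mul_one _⟩
  | inv_mem x hx =>
    obtain ⟨j, t, rfl⟩ := hx
    exact ⟨[j], -t, 1, rfl, by rw [mul_one, Γ.hinv]⟩
  | one => exact ⟨[], rfl⟩
  | mul x y _ _ hx hy =>
    obtain ⟨w, hw⟩ := hx
    obtain ⟨w', hw'⟩ := hy
    exact ⟨w ++ w', Γ.mul_mem_W w w' x y hw hw'⟩

theorem map_mat_cons (j : Γ.J) (w : List Γ.J) (t : Fin (j :: w).length → F) :
    (Γ.mat (j :: w)).map (MvPolynomial.eval t) =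
      (Γ.x j (t ⟨0, Nat.succ_pos _⟩) : Matrix ι ι F) *
        (Γ.mat w).map (MvPolynomial.eval fun i : Fin w.length => t i.succ) := by
  rw [mat, ← RingHom.mapMatrix_apply, map_mul, RingHom.mapMatrix_apply, RingHom.mapMatrix_apply,
    Matrix.map_map, Matrix.map_map, Γ.hpoly]
  congr 1
  · congr 1
    funext p
    show MvPolynomial.eval t (Polynomial.aeval _ p) = _
    rw [← MvPolynomial.aeval_eq_eval, ← Polynomial.aeval_algHom_apply, MvPolynomial.aeval_X,
      Polynomial.coe_aeval_eq_eval]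
  · congr 1
    funext p
    show MvPolynomial.eval t (MvPolynomial.rename Fin.succ p) = _
    rw [MvPolynomial.eval_rename]
    rfl

theorem mem_W_iff : ∀ (w : List Γ.J) (g : GL ι F), g ∈ Γ.W w ↔
    ∃ t : Fin w.length → F, (Γ.mat w).map (MvPolynomial.eval t) = (g : Matrix ι ι F)
  | [], g => by
    refine ⟨fun h => ⟨Fin.elim0, ?_⟩, fun ⟨t, ht⟩ => ?_⟩
    · rw [Set.mem_singleton_iff.1 h, mat, Matrix.map_one _ (map_zero _) (map_one _)]
      rfl
    · rw [mat, Matrix.map_one _ (map_zero _) (map_one _)] at ht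
      exact Set.mem_singleton_iff.2 (Units.ext ht.symm)
  | j :: w, g => by
    constructor
    · rintro ⟨t0, h, hh, rfl⟩
      obtain ⟨t, ht⟩ := (mem_W_iff w h).1 hh
      refine ⟨Fin.cons t0 t, ?_⟩
      rw [map_mat_cons, Units.val_mul, ← ht]
      rfl
    · rintro ⟨t, ht⟩
      refine ⟨t ⟨0, Nat.succ_pos _⟩, (Γ.x j (t ⟨0, Nat.succ_pos _⟩))⁻¹ * g,
        (mem_W_iff w _).2 ⟨fun i => t i.succ, ?_⟩, mul_inv_cancel_left _ _⟩
      rw [Units.val_mul, ← ht, map_mat_cons, ← mul_assoc, Units.inv_mul, one_mul]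

variable [IsAlgClosed F]

theorem det_x (j : Γ.J) (t : F) : (Γ.x j t : Matrix ι ι F).det = 1 := by
  have he : ∀ s, (Γ.poly j).det.eval s = (Γ.x j s : Matrix ι ι F).det := fun s => by
    rw [Γ.hpoly, ← coe_evalRingHom, RingHom.map_det, RingHom.mapMatrix_apply]
  have hne : ∀ s, (Γ.poly j).det.eval s ≠ 0 := fun s => by
    rw [he]; exact Matrix.GeneralLinearGroup.det_ne_zero _
  have hdeg : (Γ.poly j).det.degree = 0 := by
    by_contra h
    obtain ⟨r, hr⟩ := IsAlgClosed.exists_root _ h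
    exact hne r hr
  obtain ⟨c, hc⟩ : ∃ c, (Γ.poly j).det = Polynomial.C c := ⟨_, eq_C_of_degree_eq_zero hdeg⟩
  have h0 := he 0
  rw [hc, eval_C, Γ.hzero, Units.val_one, Matrix.det_one] at h0
  rw [← he, hc, eval_C, h0]

theorem det_mat : ∀ w, (Γ.mat w).det = 1 := by
  intro w
  refine MvPolynomial.funext fun t => ?_
  rw [RingHom.map_det, map_one, RingHom.mapMatrix_apply]
  induction w with
  | nil => simp [mat, Matrix.map_one]
  | cons j w ih => rw [map_mat_cons, Matrix.det_mul, det_x, ih, mul_one]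

/-- Evaluation of the coordinates at the generic value of a word map. -/
noncomputable def coord (w : List Γ.J) :
    MvPolynomial (ι × ι) F →ₐ[F] MvPolynomial (Fin w.length) F :=
  MvPolynomial.aeval fun ij => Γ.mat w ij.1 ij.2

/-- The matrix `x⁻¹ a x^(q)` for the generic value `x`. -/
noncomputable def langMat (w : List Γ.J) (q : ℕ) (a : GL ι F) :
    Matrix ι ι (MvPolynomial (Fin w.length) F) :=
  (Γ.mat w).adjugate * (a : Matrix ι ι F).map MvPolynomial.C * (Γ.mat w).map (· ^ q)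

/-- Evaluation of the coordinates at `x⁻¹ a x^(q)` for the generic value `x`. -/
noncomputable def langCoord (w : List Γ.J) (q : ℕ) (a : GL ι F) :
    MvPolynomial (ι × ι) F →ₐ[F] MvPolynomial (Fin w.length) F :=
  MvPolynomial.aeval fun ij => Γ.langMat w q a ij.1 ij.2

omit [IsAlgClosed F] in
theorem eval_coord (w : List Γ.J) (t : Fin w.length → F) (h : MvPolynomial (ι × ι) F) :
    MvPolynomial.eval t (Γ.coord w h) =
      MvPolynomial.eval (fun ij => (Γ.mat w).map (MvPolynomial.eval t) ij.1 ij.2) h := by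
  rw [coord, ← MvPolynomial.aeval_eq_eval, ← MvPolynomial.aeval_eq_eval]
  exact DFunLike.congr_fun (MvPolynomial.comp_aeval _ (MvPolynomial.aeval t)) h

variable {q : ℕ} {φ : F →+* F} (hφ : ∀ t, φ t = t ^ q)

include hφ

theorem eval_lang (w : List Γ.J) (a : GL ι F) (t : Fin w.length → F) (g : GL ι F)
    (hg : (Γ.mat w).map (MvPolynomial.eval t) = (g : Matrix ι ι F)) (h : MvPolynomial (ι × ι) F) :
    MvPolynomial.eval t (Γ.langCoord w q a h) =
      MvPolynomial.eval (fun ij => ((g⁻¹ * a * Matrix.GeneralLinearGroup.map φ g : GL ι F) :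
        Matrix ι ι F) ij.1 ij.2) h := by
  have key : (Γ.langMat w q a).map (MvPolynomial.eval t) =
      ((g⁻¹ * a * Matrix.GeneralLinearGroup.map φ g : GL ι F) : Matrix ι ι F) := by
    rw [langMat, ← RingHom.mapMatrix_apply, map_mul, map_mul, RingHom.map_adjugate, RingHom.mapMatrix_apply,
      hg, RingHom.mapMatrix_apply, RingHom.mapMatrix_apply, Units.val_mul, Units.val_mul]
    congr 1
    · congr 1
      · refine (Units.inv_eq_of_mul_eq_one_right ?_).symm
        rw [Matrix.mul_adjugate, ← hg, ← RingHom.mapMatrix_apply, ← RingHom.map_det, det_mat,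
          map_one, one_smul]
      · rw [Matrix.map_map]
        ext i k
        simp
    · rw [Matrix.map_map]
      ext i k
      show MvPolynomial.eval t (Γ.mat w i k ^ q) = φ ((g : Matrix ι ι F) i k)
      rw [map_pow, hφ, ← hg]
      rfl
  rw [langCoord, ← MvPolynomial.aeval_eq_eval, ← MvPolynomial.aeval_eq_eval, ← key]
  exact DFunLike.congr_fun (MvPolynomial.comp_aeval _ (MvPolynomial.aeval t)) h

omit hφ in
/-- Polynomials killing the values of a word kill the smaller set of values. -/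
theorem ker_le_of_subset {w w' : List Γ.J} (h : Γ.W w ⊆ Γ.W w') :
    RingHom.ker (Γ.coord w') ≤ RingHom.ker (Γ.coord w) := by
  intro f hf
  rw [RingHom.mem_ker] at hf ⊢
  refine MvPolynomial.funext fun t => ?_
  obtain ⟨g, hg⟩ : ∃ g : GL ι F, (g : Matrix ι ι F) = (Γ.mat w).map (MvPolynomial.eval t) :=
    ⟨Matrix.GeneralLinearGroup.mkOfDetNeZero ((Γ.mat w).map (MvPolynomial.eval t)) (by
      rw [← RingHom.mapMatrix_apply, ← RingHom.map_det, det_mat, map_one]
      exact one_ne_zero), rfl⟩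
  obtain ⟨t', ht'⟩ := (Γ.mem_W_iff w' g).1 (h ((Γ.mem_W_iff w g).2 ⟨t, hg.symm⟩))
  rw [map_zero, eval_coord, ← hg, ← ht', ← eval_coord, hf, map_zero]

omit hφ [IsAlgClosed F] in
theorem trdeg_le (w : List Γ.J) :
    Algebra.trdeg F (Γ.coord w).range ≤ (Fintype.card (ι × ι) : Cardinal.{u}) := by
  have h := lift_trdeg_le_of_surjective (Γ.coord w).rangeRestrict (Γ.coord w).rangeRestrict_surjective
  rw [MvPolynomial.trdeg_of_isDomain, Cardinal.mk_fintype] at h
  simpa using h

omit hφ in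
/-- A word whose values are dense in the group. -/
theorem exists_dense : ∃ w, ∀ f : MvPolynomial (ι × ι) F, Γ.coord w f = 0 →
    ∀ g ∈ Γ.group, MvPolynomial.eval (fun ij => (g : Matrix ι ι F) ij.1 ij.2) f = 0 := by
  classical
  set N := Fintype.card (ι × ι)
  set d : List Γ.J → ℕ := fun w => (Algebra.trdeg F (Γ.coord w).range).toNat
  have hfin : ∀ w, Algebra.trdeg F (Γ.coord w).range < Cardinal.aleph0 := fun w =>
    (Γ.trdeg_le w).trans_lt (Cardinal.natCast_lt_aleph0)
  have hb : ∀ w, d w ≤ N := fun w => by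
    have := Cardinal.toNat_le_toNat (Γ.trdeg_le w) Cardinal.natCast_lt_aleph0
    exact le_of_le_of_eq this (Cardinal.toNat_natCast N)
  obtain ⟨w, hw⟩ := Nat.sSup_mem (s := Set.range d) ⟨_, [], rfl⟩ ⟨N, by rintro _ ⟨w, rfl⟩; exact hb w⟩
  have hmax : ∀ w', d w' ≤ d w := fun w' => by
    rw [hw]; exact le_csSup ⟨N, by rintro _ ⟨w, rfl⟩; exact hb w⟩ ⟨w', rfl⟩
  refine ⟨w, fun f hf g hg => ?_⟩
  obtain ⟨w', hw'⟩ := Γ.exists_mem_W hg
  have hsub : Γ.W w ⊆ Γ.W (w ++ w') := fun h hh => by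
    rw [← mul_one h]; exact Γ.mul_mem_W _ _ _ _ hh (Γ.one_mem_W w')
  obtain ⟨θ, hθ, hθs⟩ := exists_factor (Γ.coord (w ++ w')) (Γ.coord w) (Γ.ker_le_of_subset hsub)
  have hinj := injective_of_trdeg_lift θ hθs (hfin _)
    ((Cardinal.toNat_le_iff_le_of_lt_aleph0 (hfin _) (hfin _)).1 (hmax (w ++ w')))
  have hf' : Γ.coord (w ++ w') f = 0 := by
    have h0 : θ ⟨Γ.coord (w ++ w') f, f, rfl⟩ = 0 := by rw [hθ]; exact Subtype.ext hf
    exact congrArg Subtype.val ((injective_iff_map_eq_zero θ).1 hinj _ h0)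
  have hg' : g ∈ Γ.W (w ++ w') := by
    rw [← one_mul g]; exact Γ.mul_mem_W _ _ _ _ (Γ.one_mem_W w) hw'
  obtain ⟨t, ht⟩ := (Γ.mem_W_iff _ g).1 hg'
  rw [← ht, ← eval_coord, hf', map_zero]
where
  injective_of_trdeg_lift {A B : Type u} [CommRing A] [IsDomain A] [Algebra F A] [CommRing B]
      [IsDomain B] [Algebra F B] (ψ : A →ₐ[F] B) (hψ : Function.Surjective ψ)
      (hfin : Algebra.trdeg F A < Cardinal.aleph0) (hle : Algebra.trdeg F A ≤ Algebra.trdeg F B) :
      Function.Injective ψ := injective_of_trdeg ψ hψ hfin hle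

variable (hq : 1 < q) (hx : ∀ j t, Matrix.GeneralLinearGroup.map φ (Γ.x j t) = Γ.x j (φ t))

include hx

omit [IsAlgClosed F] hφ in
theorem map_mem_group {g : GL ι F} (hg : g ∈ Γ.group) :
    Matrix.GeneralLinearGroup.map φ g ∈ Γ.group := by
  have : Γ.group ≤ Γ.group.comap (Matrix.GeneralLinearGroup.map φ) := by
    refine (Subgroup.closure_le _).2 ?_
    rintro _ ⟨j, t, rfl⟩
    show _ ∈ Γ.group
    rw [hx]
    exact Subgroup.subset_closure ⟨j, _, rfl⟩
  exact this hg

include hq

set_option maxHeartbeats 1000000 in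
/-- For a dense word, the twisted Lang map attains every value off a hypersurface. -/
theorem exists_generic {w : List Γ.J}
    (hw : ∀ f : MvPolynomial (ι × ι) F, Γ.coord w f = 0 →
      ∀ g ∈ Γ.group, MvPolynomial.eval (fun ij => (g : Matrix ι ι F) ij.1 ij.2) f = 0)
    {a : GL ι F} (ha : a ∈ Γ.group) :
    ∃ b : MvPolynomial (Fin w.length) F, b ≠ 0 ∧ ∀ (t : Fin w.length → F) (y : GL ι F),
      (Γ.mat w).map (MvPolynomial.eval t) = (y : Matrix ι ι F) → MvPolynomial.eval t b ≠ 0 →
      ∃ g ∈ Γ.group, g⁻¹ * a * Matrix.GeneralLinearGroup.map φ g = y := by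
  classical
  set n := w.length
  set Ψ := Γ.mat w
  set A := (Γ.coord w).range with hA
  set B := (Γ.langCoord w q a).range with hB
  set Y := Γ.langMat w q a with hY
  have hkerle : RingHom.ker (Γ.coord w) ≤ RingHom.ker (Γ.langCoord w q a) := by
    intro f hf
    rw [RingHom.mem_ker] at hf ⊢
    refine MvPolynomial.funext fun t => ?_
    obtain ⟨g, hg⟩ : ∃ g : GL ι F, (g : Matrix ι ι F) = Ψ.map (MvPolynomial.eval t) :=
      ⟨Matrix.GeneralLinearGroup.mkOfDetNeZero (Ψ.map (MvPolynomial.eval t)) (by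
        rw [← RingHom.mapMatrix_apply, ← RingHom.map_det, det_mat, map_one]
        exact one_ne_zero), rfl⟩
    have hgG : g ∈ Γ.group := Γ.W_le_group w ((Γ.mem_W_iff w g).2 ⟨t, hg.symm⟩)
    rw [map_zero, Γ.eval_lang hφ w a t g hg.symm]
    exact hw f hf _ (mul_mem (mul_mem (inv_mem hgG) ha) (Γ.map_mem_group hx hgG))
  obtain ⟨ψ, hψ, hψs⟩ := exists_factor (Γ.coord w) (Γ.langCoord w q a) hkerle
  -- integrality of the entries of `x` over those of `x⁻¹ a x^(q)`
  set v : ι × ι → MvPolynomial (Fin n) F := fun ij => Ψ ij.1 ij.2 with hv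
  have hYB : ∀ i k, Y i k ∈ B := fun i k => ⟨MvPolynomial.X (i, k), MvPolynomial.aeval_X _ _⟩
  have hpow : ∀ z, v z ^ q ∈ Submodule.span B (Set.range v) := by
    have hrel : ((a⁻¹ : GL ι F) : Matrix ι ι F).map MvPolynomial.C * (Ψ * Y) = Ψ.map (· ^ q) := by
      rw [hY, langMat, ← mul_assoc Ψ, ← mul_assoc Ψ, Matrix.mul_adjugate, det_mat, one_smul, one_mul,
        ← mul_assoc, ← RingHom.mapMatrix_apply, ← RingHom.mapMatrix_apply, ← map_mul, Units.inv_mul,
        map_one, one_mul]
    rintro ⟨i, k⟩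
    have h1 := congrFun (congrFun hrel i) k
    show Ψ i k ^ q ∈ _
    rw [show Ψ i k ^ q = (Ψ.map (· ^ q)) i k from rfl, ← h1, Matrix.mul_apply]
    refine Submodule.sum_mem _ fun r _ => ?_
    rw [Matrix.mul_apply, Finset.mul_sum]
    refine Submodule.sum_mem _ fun l _ => ?_
    have hc : MvPolynomial.C (((a⁻¹ : GL ι F) : Matrix ι ι F) i r) * Y l k ∈ B :=
      mul_mem (Subalgebra.algebraMap_mem B _) (hYB l k)
    rw [Matrix.map_apply, mul_left_comm, mul_comm (Ψ r l)]
    exact Submodule.smul_mem _ (⟨_, hc⟩ : B) (Submodule.subset_span ⟨(r, l), rfl⟩)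
  set A' := Algebra.adjoin B (Set.range v) with hA'
  have hint := isIntegral_of_pow_mem_span v hq hpow
  have hAA' : A ≤ A'.restrictScalars F := by
    rw [hA, coord, ← Algebra.adjoin_range_eq_range_aeval]
    exact Algebra.adjoin_le fun c hc => Algebra.subset_adjoin hc
  have : Algebra.IsIntegral B A' :=
    ⟨fun c => (isIntegral_algHom_iff A'.val Subtype.val_injective).1 (hint c c.2)⟩
  have htr : Algebra.trdeg F A ≤ Algebra.trdeg F B := trdeg_le_of_isIntegral A B A' hAA'
  have hψinj : Function.Injective ψ :=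
    injective_of_trdeg ψ hψs ((Γ.trdeg_le w).trans_lt Cardinal.natCast_lt_aleph0) htr
  let ψe := AlgEquiv.ofBijective ψ ⟨hψinj, hψs⟩
  -- the open set where points lift to parameters
  obtain ⟨c, hc0, hc⟩ := exists_point_adjoin_list (List.ofFn fun i : Fin n => MvPolynomial.X i) A 1
    (one_mem _) one_ne_zero
  have htop : (⊤ : Subalgebra F (MvPolynomial (Fin n) F)) ≤
      A ⊔ Algebra.adjoin F {x | x ∈ List.ofFn fun i : Fin n => MvPolynomial.X i} := by
    rw [← MvPolynomial.adjoin_range_X]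
    exact (Algebra.adjoin_mono (by rintro _ ⟨i, rfl⟩; exact List.mem_ofFn.2 ⟨i, rfl⟩)).trans le_sup_right
  obtain ⟨d, hd0, s, hs⟩ := (Algebra.IsAlgebraic.isAlgebraic (R := B)
    (⟨c.1, hAA' c.2⟩ : A')).exists_nonzero_dvd
      (mem_nonZeroDivisors_of_ne_zero fun h => hc0 (Subtype.ext (congrArg (fun z : A' => (z : MvPolynomial (Fin n) F)) h)))
  refine ⟨(ψe.symm d).1, fun h => hd0 (by
    have : ψe.symm d = 0 := Subtype.ext h
    simpa using congrArg ψe this), fun t y hy hne => ?_⟩
  let ev : A →ₐ[F] F := (MvPolynomial.aeval t).comp A.val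
  let ε : B →ₐ[F] F := ev.comp ψe.symm.toAlgHom
  have hεd : ε d ≠ 0 := by
    show (MvPolynomial.aeval t) (ψe.symm d).1 ≠ 0
    rwa [MvPolynomial.aeval_eq_eval]
  obtain ⟨χ, hχ⟩ := exists_point_of_integral B A' hint ε
  let inc : A →+* A' := (Subalgebra.inclusion hAA').toRingHom
  let εA : A →ₐ[F] F :=
    { χ.comp inc with
      commutes' := fun r => by
        show χ (inc (algebraMap F A r)) = r
        rw [show inc (algebraMap F A r) = algebraMap B A' (algebraMap F B r) from Subtype.ext rfl,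
          hχ, AlgHom.commutes]
        rfl }
  have hεc : εA c ≠ 0 := by
    intro h
    apply hεd
    rw [← hχ, show algebraMap B A' d = (⟨c.1, hAA' c.2⟩ : A') * s from hs, map_mul]
    show εA c * χ s = 0
    rw [h, zero_mul]
  obtain ⟨χ₂, hχ₂, -⟩ := hc εA hεc
  let χ₃ : MvPolynomial (Fin n) F →ₐ[F] F :=
    χ₂.comp ((Subalgebra.inclusion htop).comp Algebra.toTop)
  set t' : Fin n → F := fun i => χ₃ (MvPolynomial.X i)
  have hχ₃ : χ₃ = MvPolynomial.aeval t' :=
    MvPolynomial.algHom_ext fun i => (MvPolynomial.aeval_X t' i).symm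
  obtain ⟨g, hg⟩ : ∃ g : GL ι F, (g : Matrix ι ι F) = Ψ.map (MvPolynomial.eval t') :=
    ⟨Matrix.GeneralLinearGroup.mkOfDetNeZero (Ψ.map (MvPolynomial.eval t')) (by
      rw [← RingHom.mapMatrix_apply, ← RingHom.map_det, det_mat, map_one]
      exact one_ne_zero), rfl⟩
  refine ⟨g, Γ.W_le_group w ((Γ.mem_W_iff w g).2 ⟨t', hg.symm⟩), Units.ext (Matrix.ext fun i k => ?_)⟩
  have h1 := Γ.eval_lang hφ w a t' g hg.symm (MvPolynomial.X (i, k))
  rw [MvPolynomial.eval_X] at h1
  rw [← h1, ← hy]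
  set bb : B := ⟨Γ.langCoord w q a (MvPolynomial.X (i, k)), MvPolynomial.X (i, k), rfl⟩ with hbb
  have hbA : (bb : MvPolynomial (Fin n) F) ∈ A := by
    have hΨA : ∀ r l, Ψ r l ∈ A := fun r l => ⟨MvPolynomial.X (r, l), MvPolynomial.aeval_X _ _⟩
    have : ∀ r l, Y r l ∈ A := fun r l => by
      rw [hY, langMat, Matrix.mul_apply]
      refine sum_mem fun m _ => mul_mem ?_ (pow_mem (hΨA _ _) _)
      rw [Matrix.mul_apply]
      refine sum_mem fun m' _ => mul_mem ?_ (Subalgebra.algebraMap_mem A _)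
      have hadj : Ψ.adjugate = (A.val.toRingHom.mapMatrix
          (Matrix.adjugate (Matrix.of fun r l => (⟨Ψ r l, hΨA r l⟩ : A)))) := by
        rw [RingHom.map_adjugate]
        rfl
      rw [hadj]
      exact (Matrix.adjugate (Matrix.of fun r l => (⟨Ψ r l, hΨA r l⟩ : A)) r m').2
    rw [hbb]
    show Γ.langCoord w q a (MvPolynomial.X (i, k)) ∈ A
    rw [langCoord, MvPolynomial.aeval_X]
    exact this i k
  have e1 : MvPolynomial.eval t' (bb : MvPolynomial (Fin n) F) = ε bb := by
    rw [← MvPolynomial.aeval_eq_eval, ← hχ₃]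
    show χ₂ ⟨_, _⟩ = _
    refine (hχ₂ ⟨_, hbA⟩).trans ?_
    show χ _ = _
    rw [← hχ bb]
    rfl
  rw [e1]
  show MvPolynomial.aeval t (ψe.symm bb).1 = _
  have e2 : ψe.symm bb = ⟨Γ.coord w (MvPolynomial.X (i, k)), MvPolynomial.X (i, k), rfl⟩ := by
    rw [AlgEquiv.symm_apply_eq]
    exact (hψ (MvPolynomial.X (i, k))).symm
  rw [e2]
  show MvPolynomial.aeval t (Γ.coord w (MvPolynomial.X (i, k))) = _
  rw [MvPolynomial.aeval_eq_eval, coord, MvPolynomial.aeval_X]
  rfl

/-- **Lang's theorem** for a group generated by polynomial one-parameter subgroups. -/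
theorem exists_lang {a : GL ι F} (ha : a ∈ Γ.group) :
    ∃ g ∈ Γ.group, g⁻¹ * Matrix.GeneralLinearGroup.map φ g = a := by
  obtain ⟨w, hw⟩ := Γ.exists_dense
  obtain ⟨b₁, hb₁, h₁⟩ := Γ.exists_generic hφ hq hx hw (one_mem Γ.group)
  obtain ⟨b₂, hb₂, h₂⟩ := Γ.exists_generic hφ hq hx hw ha
  obtain ⟨t, ht⟩ : ∃ t : Fin w.length → F, MvPolynomial.eval t (b₁ * b₂) ≠ 0 := by
    by_contra h
    push Not at h
    exact mul_ne_zero hb₁ hb₂ (MvPolynomial.funext fun t => by rw [h t, map_zero])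
  rw [map_mul] at ht
  obtain ⟨y, hy⟩ : ∃ y : GL ι F, (y : Matrix ι ι F) = (Γ.mat w).map (MvPolynomial.eval t) :=
    ⟨Matrix.GeneralLinearGroup.mkOfDetNeZero ((Γ.mat w).map (MvPolynomial.eval t)) (by
      rw [← RingHom.mapMatrix_apply, ← RingHom.map_det, det_mat, map_one]
      exact one_ne_zero), rfl⟩
  obtain ⟨g₁, hg₁, e₁⟩ := h₁ t y hy.symm (left_ne_zero_of_mul ht)
  obtain ⟨g₂, hg₂, e₂⟩ := h₂ t y hy.symm (right_ne_zero_of_mul ht)
  refine ⟨g₁ * g₂⁻¹, mul_mem hg₁ (inv_mem hg₂), ?_⟩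
  rw [mul_one] at e₁
  rw [mul_inv_rev, inv_inv, map_mul, map_inv, mul_assoc g₂, ← mul_assoc g₁⁻¹, e₁, ← e₂]
  group

end Curves

end CfsgLib.LangConnected
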